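import Groth.Prelude.Def_Versch
import Mathlib.RingTheory.Bialgebra.Basic
import Mathlib.RingTheory.Coalgebra.Convolution

/-! Computations with the Verschiebung predicate. -/

universe u v

open TensorProduct

namespace Groth.L28.Versch

variable (R : Type u) [CommRing R] (A : Type v) [CommRing A] [HopfAlgebra R A]

theorem mul_apply_of_comul {a b c : A} (h : Coalgebra.comul (R := R) a = b ⊗ₜ[R] c) (x y : CartDual.D R A) :
    (x * y) a = x b * y c := by
  rw [CartDual.coe_apply, LinearMap.convMul_def, WithConv.ofConv_toConv]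
  simp [h, CartDual.coe_apply]

theorem mul_apply_of_comul_add {a b c b' c' : A}
    (h : Coalgebra.comul (R := R) a = b ⊗ₜ[R] c + b' ⊗ₜ[R] c') (x y : CartDual.D R A) :
    (x * y) a = x b * y c + x b' * y c' := by
  rw [CartDual.coe_apply, LinearMap.convMul_def, WithConv.ofConv_toConv]
  simp [h, CartDual.coe_apply]

theorem pow_apply_one (x : CartDual.D R A) (n : ℕ) : (x ^ n) (1 : A) = (x (1 : A)) ^ n := by
  induction n with
  | zero => simp [CartDual.coe_apply, LinearMap.convOne_def]
  | succ n ih =>
    rw [pow_succ, mul_apply_of_comul R A (b := 1) (c := 1) (by rw [Bialgebra.comul_one]; rfl), ih, pow_succ]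

theorem pow_apply_grouplike {g : A} (hg : Coalgebra.comul (R := R) g = g ⊗ₜ[R] g)
    (hc : Coalgebra.counit (R := R) g = 1) (x : CartDual.D R A) (n : ℕ) : (x ^ n) g = (x g) ^ n := by
  induction n with
  | zero => simp [CartDual.coe_apply, LinearMap.convOne_def, hc]
  | succ n ih => rw [pow_succ, mul_apply_of_comul R A hg, ih, pow_succ]

theorem pow_apply_primitive {a : A} (ha : Coalgebra.comul (R := R) a = a ⊗ₜ[R] 1 + 1 ⊗ₜ[R] a)
    (hc : Coalgebra.counit (R := R) a = 0) (x : CartDual.D R A) (n : ℕ) :
    (x ^ n) a = (n : R) * (x a * (x (1 : A)) ^ (n - 1)) := by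
  induction n with
  | zero => simp [CartDual.coe_apply, LinearMap.convOne_def, hc]
  | succ n ih =>
    rw [pow_succ, mul_apply_of_comul_add R A ha, ih, pow_apply_one]
    rcases n with _ | n
    · simp
    · rw [Nat.add_sub_cancel, Nat.add_sub_cancel, pow_succ]; push_cast; ring

variable (p : ℕ) [Fact p.Prime] [CharP R p] [Coalgebra.IsCocomm R A]

theorem evTw_tmul_toTwist (x : CartDual.D R A) (a : A) (c : R) :
    _root_.Versch.evTw p R A x (a ⊗ₜ FrobAlg.toTwist p R c) = FrobAlg.toTwist p R ((x a) ^ p * c) := by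
  rw [_root_.Versch.evTw_tmul', map_mul]

end Groth.L28.Versch
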